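import Groth.Agent.GenusLe.Finite
import Groth.Agent.VarDim.Top
import Mathlib.AlgebraicGeometry.ZariskisMainTheorem

/-! Proper maps of curves which are isomorphisms over a dense open are finite. -/

noncomputable section

set_option linter.style.haveILetI false

universe u

open CategoryTheory CategoryTheory.Limits AlgebraicGeometry TopologicalSpace

namespace Groth.Agent.GenusLe

open Groth.Agent

variable {X Y : Scheme.{u}}

/-- Every point of a Noetherian scheme is a specialisation of a point of a given dense open. -/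
theorem exists_generization_mem_dense [IsNoetherian X] {U : X.Opens} (hU : Dense (U : Set X)) (x : X) :
    ∃ η ∈ U, η ⤳ x := by
  obtain ⟨Z, hZ1, hZ2, hZ3⟩ := exists_preirreducible ({x} : Set X) isIrreducible_singleton.2
  have hZ : Z ∈ irreducibleComponents X :=
    ⟨⟨(Set.singleton_nonempty x).mono hZ2, hZ1⟩, fun W hW hle => (hZ3 W hW.2 hle).le⟩
  obtain ⟨η, hη⟩ := QuasiSober.sober hZ.1 (isClosed_of_mem_irreducibleComponents Z hZ)
  obtain ⟨O, hO, hOne, hOZ⟩ :=
    NoetherianSpace.exists_isOpen_nonempty_subset_irreducibleComponent Z hZ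
  obtain ⟨w, hwO, hwU⟩ := hU.inter_open_nonempty O hO hOne
  exact ⟨η, (hη.specializes (hOZ hwO)).mem_open U.2 hwU, hη.specializes (hZ2 rfl)⟩

/-- A closed set of closed points of a Noetherian scheme is finite. -/
theorem finite_of_isClosed_points [IsNoetherian X] {S : Set X} (hS : IsClosed S)
    (h : ∀ z ∈ S, IsClosed ({z} : Set X)) : S.Finite := by
  haveI : QuasiSober S := hS.isClosedEmbedding_subtypeVal.quasiSober
  have hsub : ∀ Z ∈ irreducibleComponents S, Z.Subsingleton := fun Z hZ => by
    obtain ⟨η, hη⟩ := QuasiSober.sober hZ.1 (isClosed_of_mem_irreducibleComponents Z hZ)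
    intro a ha b hb
    have hc : ∀ c ∈ Z, (c : X) = η.1 := fun c hc => by
      have := ((hη.specializes hc).map continuous_subtype_val).mem_closed (h η.1 η.2) rfl
      exact Set.mem_singleton_iff.1 this
    exact Subtype.ext ((hc a ha).trans (hc b hb).symm)
  have hfin : (Set.univ : Set S).Finite := by
    rw [← sUnion_irreducibleComponents]
    exact Set.Finite.sUnion NoetherianSpace.finite_irreducibleComponents fun Z hZ => (hsub Z hZ).finite
  exact Set.finite_coe_iff.1 (Set.finite_univ_iff.1 hfin)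

variable (k : Type u) [Field k] [X.Over (Spec (CommRingCat.of k))] [Y.Over (Spec (CommRingCat.of k))]
  [IsProper (X ↘ Spec (CommRingCat.of k))]

/-- A proper map to a curve which is an isomorphism over a dense open with dense preimage is finite. -/
theorem isFinite_of_dense (hdim : topologicalKrullDim X ≤ 1) (f : Y ⟶ X) [IsProper f]
    (hf : f ≫ (X ↘ Spec (CommRingCat.of k)) = Y ↘ Spec (CommRingCat.of k))
    (U : X.Opens) (hU : Dense (U : Set X)) (hU' : Dense ((f ⁻¹ᵁ U : Y.Opens) : Set Y))
    [IsIso (f ∣_ U)] : IsFinite f := by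
  haveI := CurveCohLib.isNoetherian_of_proper (k := k) (X := X)
  haveI : IsProper (Y ↘ Spec (CommRingCat.of k)) := hf ▸ inferInstance
  haveI := CurveCohLib.isNoetherian_of_proper (k := k) (X := Y)
  have hdimY : topologicalKrullDim Y ≤ 1 := by
    rw [VarDim.topologicalKrullDim_eq_iSup_deg (Y ↘ Spec (CommRingCat.of k))]
    refine iSup_le fun y => ?_
    obtain ⟨η, hη, hs⟩ := exists_generization_mem_dense hU' y
    let j := (f ∣_ U) ≫ U.ι
    have h1 : VarDim.deg (Y ↘ Spec (CommRingCat.of k)) η = VarDim.deg (X ↘ Spec (CommRingCat.of k)) (j ⟨η, hη⟩) := by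
      rw [← VarDim.deg_comp (X ↘ Spec (CommRingCat.of k)) j ⟨η, hη⟩]
      refine (VarDim.deg_comp (Y ↘ Spec (CommRingCat.of k)) (f ⁻¹ᵁ U).ι ⟨η, hη⟩).symm.trans ?_
      congr 1
      rw [← hf]
      exact (morphismRestrict_ι_assoc f U _).symm.trans (Category.assoc _ _ _).symm
    refine le_trans ?_ hdim
    rw [VarDim.topologicalKrullDim_eq_iSup_deg (X ↘ Spec (CommRingCat.of k))]
    refine le_iSup_of_le (j ⟨η, hη⟩) ?_
    rw [← h1]
    exact_mod_cast VarDim.deg_le_of_specializes (Y ↘ Spec (CommRingCat.of k)) hs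
  haveI : LocallyQuasiFinite f := locallyQuasiFinite_iff_finite_preimage_singleton.2 fun x => by
    by_cases hx : x ∈ U
    · refine ((Set.finite_singleton ((inv (f ∣_ U)) ⟨x, hx⟩)).image (f ⁻¹ᵁ U).ι).subset fun y hy => ?_
      have hy' : y ∈ f ⁻¹ᵁ U := show f y ∈ U from (show f y = x from hy) ▸ hx
      refine ⟨⟨y, hy'⟩, ?_, rfl⟩
      have h2 : (f ∣_ U) ⟨y, hy'⟩ = ⟨x, hx⟩ := Subtype.ext ((morphismRestrict_base_coe f U ⟨y, hy'⟩).trans hy)
      refine Set.mem_singleton_iff.2 ((?_ : (⟨y, hy'⟩ : (f ⁻¹ᵁ U).toScheme) = inv (f ∣_ U) ((f ∣_ U) ⟨y, hy'⟩)).trans (congrArg _ h2))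
      rw [← Scheme.Hom.comp_apply, IsIso.hom_inv_id]
      rfl
    · refine finite_of_isClosed_points ((isClosed_of_notMem_dense hdim hU hx).preimage f.continuous) fun y hy => ?_
      exact isClosed_of_notMem_dense hdimY hU' fun hy' => hx ((show f y = x from hy) ▸ (hy' : f y ∈ U))
  exact IsFinite.of_isProper_of_locallyQuasiFinite f

end Groth.Agent.GenusLe
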