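import Groth.Agent.Snapper.DimVanish
import Groth.Agent.QCoh.PushLin
import Groth.Agent.CurveCohLib.Proper
import Groth.Agent.CurveCohLib.Rank
import Groth.Prelude.Def_CurvBase
import Groth.Prelude.Def_ClSub2

/-! The genus does not grow along finite maps which are closed immersions over a dense open. -/

noncomputable section

set_option linter.style.haveILetI false
set_option linter.unusedSectionVars false
set_option backward.isDefEq.respectTransparency false
set_option backward.isDefEq.respectTransparency.types false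

universe u

open CategoryTheory CategoryTheory.Limits AlgebraicGeometry TopologicalSpace Opposite
open Groth.Agent.PnCoh.Finite (mapLin deltaLin)

namespace Groth.Agent.GenusLe

open Groth.Agent

variable {X Y : Scheme.{u}}

theorem isIrreducible_closure_point (z : X) : IsIrreducible (closure ({z} : Set X)) :=
  isIrreducible_singleton.closure

/-- The points off a dense open of a space of dimension at most one are closed. -/
theorem isClosed_of_notMem_dense (hdim : topologicalKrullDim X ≤ 1) [IsNoetherian X] {U : X.Opens}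
    (hU : Dense (U : Set X)) {x : X} (hx : x ∉ U) : IsClosed ({x} : Set X) := by
  by_contra hnc
  obtain ⟨y, hy, hne⟩ : ∃ y ∈ closure ({x} : Set X), y ≠ x := by
    by_contra! hall
    refine hnc ?_
    rw [show ({x} : Set X) = closure {x} from Set.Subset.antisymm subset_closure hall]
    exact isClosed_closure
  obtain ⟨Z, hZ, hxZ⟩ : ∃ Z ∈ irreducibleComponents X, closure ({x} : Set X) ⊆ Z := by
    obtain ⟨Z, hZ1, hZ2, hZ3⟩ := exists_preirreducible (closure ({x} : Set X)) (isIrreducible_closure_point x).2
    exact ⟨Z, ⟨⟨(Set.singleton_nonempty x).mono (subset_closure.trans hZ2), hZ1⟩,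
      fun W hW hle => (hZ3 W hW.2 hle).le⟩, hZ2⟩
  obtain ⟨η, hη⟩ := QuasiSober.sober hZ.1 (isClosed_of_mem_irreducibleComponents Z hZ)
  have hηU : η ∈ U := by
    haveI : NoetherianSpace X := inferInstance
    obtain ⟨O, hO, hOne, hOZ⟩ := NoetherianSpace.exists_isOpen_nonempty_subset_irreducibleComponent Z hZ
    obtain ⟨w, hwO, hwU⟩ := hU.inter_open_nonempty O hO hOne
    exact (hη.specializes (hOZ hwO)).mem_open U.2 hwU
  have hxη : x ≠ η := fun h => hx (h ▸ hηU)
  let A : IrreducibleCloseds X := ⟨closure {y}, isIrreducible_closure_point y, isClosed_closure⟩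
  let B : IrreducibleCloseds X := ⟨closure {x}, isIrreducible_closure_point x, isClosed_closure⟩
  let C : IrreducibleCloseds X := ⟨closure {η}, isIrreducible_closure_point η, isClosed_closure⟩
  have hAB : A < B := lt_of_le_of_ne (closure_minimal (Set.singleton_subset_iff.2 hy) isClosed_closure :
      closure ({y} : Set X) ⊆ closure {x}) fun h => hne (((specializes_iff_closure_subset.2
        (congrArg SetLike.coe h).ge).antisymm (specializes_iff_mem_closure.2 hy)).eq.symm ▸ rfl)
  have hBC : B < C := lt_of_le_of_ne (hxZ.trans hη.def.ge : closure ({x} : Set X) ⊆ closure {η})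
    fun h => hxη (((specializes_iff_closure_subset.2 (congrArg SetLike.coe h).le).antisymm
      (specializes_iff_closure_subset.2 (congrArg SetLike.coe h).ge)).eq.symm)
  let c : LTSeries (IrreducibleCloseds X) := ⟨2, ![A, B, C], fun i => by fin_cases i; exacts [hAB, hBC]⟩
  have := (Order.LTSeries.length_le_krullDim c).trans hdim
  exact absurd this (by norm_num [c])

/-- Over the open the unit is surjective on stalks. -/
theorem epi_stalk_unit (f : Y ⟶ X) {U : X.Opens} [IsClosedImmersion (f ∣_ U)] {x : X} (hx : x ∈ U) :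
    Epi ((DerSch.stalkFunctor X x).map (ClSub.unitToPush f)) := by
  refine (ModuleCat.epi_iff_surjective _).2 fun m => ?_
  let P := (Scheme.Modules.pushforward f).obj (Coh.structureModule Y)
  obtain ⟨V, hxV, s, rfl⟩ := TopCat.Presheaf.exists_germ_eq P.presheaf m
  obtain ⟨_, ⟨W, hW, rfl⟩, hxW, hWV⟩ := U.toScheme.isBasis_affineOpens.exists_subset_of_mem_open
    (show (⟨x, hx⟩ : U) ∈ U.ι ⁻¹ᵁ V from hxV) (U.ι ⁻¹ᵁ V).2
  have hle : U.ι ''ᵁ W ≤ V := by
    rintro _ ⟨w, hw, rfl⟩
    exact hWV hw
  have hxI : x ∈ U.ι ''ᵁ W := ⟨⟨x, hx⟩, hxW, rfl⟩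
  have hsurj : Function.Surjective (f.app (U.ι ''ᵁ W)) := by
    have h := Scheme.Hom.app_surjective (f ∣_ U) W hW
    rw [morphismRestrict_app] at h
    intro y
    obtain ⟨a, ha⟩ := h (Y.presheaf.map (eqToHom (image_morphismRestrict_preimage f U W)).op y)
    exact ⟨a, (ConcreteCategory.bijective_of_isIso
      (Y.presheaf.map (eqToHom (image_morphismRestrict_preimage f U W)).op)).1 ha⟩
  obtain ⟨a, ha⟩ := hsurj (show Γ(Y, f ⁻¹ᵁ (U.ι ''ᵁ W)) from P.presheaf.map (homOfLE hle).op s)
  refine ⟨(Coh.structureModule X).presheaf.germ (U.ι ''ᵁ W) x hxI a, ?_⟩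
  refine (TopCat.Presheaf.stalkFunctor_map_germ_apply (C := AddCommGrpCat) (U.ι ''ᵁ W) x hxI
    ((Scheme.Modules.toPresheaf X).map (ClSub.unitToPush f)) a).trans ?_
  exact (congrArg (P.presheaf.germ (U.ι ''ᵁ W) x hxI) ha).trans
    (P.presheaf.germ_res_apply (homOfLE hle) x hxI s)

variable (k : Type u) [Field k] [X.Over (Spec (CommRingCat.of k))] [Y.Over (Spec (CommRingCat.of k))]
  [IsProper (X ↘ Spec (CommRingCat.of k))]

/-- The genus does not grow along an affine map which is a closed immersion over a dense open. -/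
theorem genus_le (hdim : topologicalKrullDim X ≤ 1) (f : Y ⟶ X) [IsFinite f]
    (hf : f ≫ (X ↘ Spec (CommRingCat.of k)) = Y ↘ Spec (CommRingCat.of k))
    (U : X.Opens) (hU : Dense (U : Set X)) [IsClosedImmersion (f ∣_ U)] :
    Curv2.genus k Y ≤ Curv2.genus k X := by
  haveI := CurveCohLib.isNoetherian_of_proper (k := k) (X := X)
  haveI : X.IsSeparated := ⟨by
    rw [← terminal.comp_from (X ↘ Spec (CommRingCat.of k))]
    infer_instance⟩
  let O := Coh.structureModule X
  let P := (Scheme.Modules.pushforward f).obj (Coh.structureModule Y)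
  let φ : O ⟶ P := ClSub.unitToPush f
  have hO : Coh.IsCoh O := QCoh.isCoh_structureModule'
  have hP : Coh.IsQCoh P := QCoh.isQCoh_pushforward f QCoh.isQCoh_structureModule
  have hC := QCoh.isQCoh_cokernel hO.1 hP φ
  have hI : Coh.IsQCoh (Abelian.image φ) := QCoh.isQCoh_kernel hP hC _
  have hK := QCoh.isQCoh_kernel hO.1 hP φ
  have h1 : (ShortComplex.mk (kernel.ι φ) (Abelian.factorThruImage φ)
      ((cancel_mono (Abelian.image.ι φ)).1 (by rw [Category.assoc, Abelian.image.fac, kernel.condition, zero_comp]))).ShortExact :=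
    { exact := ShortComplex.exact_of_f_is_kernel _ (KernelFork.IsLimit.ofι' _ _ fun {T} t ht =>
        ⟨kernel.lift φ t (by rw [← Abelian.image.fac φ, reassoc_of% ht, zero_comp]), kernel.lift_ι _ _ _⟩)
      mono_f := inferInstance
      epi_g := inferInstance }
  have h2 : (ShortComplex.mk (Abelian.image.ι φ) (cokernel.π φ) (kernel.condition _)).ShortExact :=
    { exact := ShortComplex.exact_of_f_is_kernel _ (kernelIsKernel (cokernel.π φ))
      mono_f := inferInstance
      epi_g := inferInstance }
  have hs1 : Function.Surjective (mapLin k (Abelian.factorThruImage φ) 1) := fun y => by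
    haveI : Subsingleton (Coh.HH X (kernel φ) 2) := Snapper.subsingleton_HH_of_dim_le (d := 1) hdim hK one_lt_two
    exact LinearMap.mem_range.1 ((Euler.range_mapLin_g k h1 1).ge (LinearMap.mem_ker.2 (Subsingleton.elim _ _)))
  have hsupp : CohB1.support (cokernel φ) ⊆ (U : Set X)ᶜ := fun x hx hxU =>
    Snapper.notMem_support_cokernel φ (epi_stalk_unit f hxU) hx
  haveI : Subsingleton (Coh.HH X (cokernel φ) 1) := by
    refine Snapper.subsingleton_HH_of_dim_lt 1 ⟨(U : Set X)ᶜ, U.2.isClosed_compl⟩ ?_ _ hC hsupp 1 le_rfl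
    refine lt_of_le_of_lt (iSup_le fun p => ?_ : topologicalKrullDim ↥((U : Set X)ᶜ) ≤ (0 : WithBot ℕ∞)) (by norm_num)
    by_contra hp
    have hlen : 0 < p.length := Nat.pos_of_ne_zero fun h => hp (by rw [h]; simp)
    have hlt : p.head < p.last := p.strictMono (show (0 : Fin _) < Fin.last _ by simpa [Fin.lt_def] using hlen)
    have hemb := U.2.isClosed_compl.isClosedEmbedding_subtypeVal
    obtain ⟨η, hη⟩ := QuasiSober.sober (IrreducibleCloseds.map _ hemb.continuous p.last).isIrreducible
      (IrreducibleCloseds.map _ hemb.continuous p.last).isClosed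
    have hηU : η ∉ U := by
      have h : (IrreducibleCloseds.map _ hemb.continuous p.last : Set X) ⊆ (U : Set X)ᶜ :=
        closure_minimal (by rintro _ ⟨z, -, rfl⟩; exact z.2) U.2.isClosed_compl
      exact h hη.mem
    have hcl := isClosed_of_notMem_dense hdim hU hηU
    have hB : (IrreducibleCloseds.map _ hemb.continuous p.last : Set X) = {η} := hη.def.symm.trans hcl.closure_eq
    have hA : (IrreducibleCloseds.map _ hemb.continuous p.head : Set X) = {η} :=
      Set.Subset.antisymm (hB ▸ (IrreducibleCloseds.map_strictMono_of_isInducing hemb.isInducing hlt).le)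
        (by
          obtain ⟨w, hw⟩ := (IrreducibleCloseds.map _ hemb.continuous p.head).isIrreducible.nonempty
          have hwη : w = η := Set.mem_singleton_iff.1
            ((hB ▸ (IrreducibleCloseds.map_strictMono_of_isInducing hemb.isInducing hlt).le : _ ⊆ ({η} : Set X)) hw)
          exact Set.singleton_subset_iff.2 (hwη ▸ hw))
    exact (IrreducibleCloseds.map_strictMono_of_isInducing hemb.isInducing hlt).ne (IrreducibleCloseds.ext (hA.trans hB.symm))
  have hs2 : Function.Surjective (mapLin k (Abelian.image.ι φ) 1) := fun y =>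
    LinearMap.mem_range.1 ((Euler.range_mapLin_f k h2 1).ge (LinearMap.mem_ker.2 (Subsingleton.elim _ _)))
  haveI := CurveCohLib.finite_HH (k := k) hO 1
  have hle := LinearMap.finrank_le_finrank_of_surjective
    (f := (mapLin k (Abelian.image.ι φ) 1).comp (mapLin k (Abelian.factorThruImage φ) 1)) (hs2.comp hs1)
  obtain ⟨e⟩ := QCoh.HH_push_linear f (A := k) (Coh.toGlobal (X ↘ Spec (CommRingCat.of k)))
    (Coh.toGlobal (Y ↘ Spec (CommRingCat.of k))) (fun a => by rw [← hf]; rfl)
    (QCoh.isQCoh_structureModule (X := Y)) 1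
  exact e.finrank_eq.le.trans hle

end Groth.Agent.GenusLe
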